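import Cfsg.Agent.H196.Spr.SUOdd
import Cfsg.Agent.H729.CovSU9

/-!
# S3938: `Spr (PSU 9 F q)` (helper196), from the residual class (S5833)
-/

set_option autoImplicit false
set_option linter.unusedSectionVars false

namespace Cfsg.Agent.H196.Spr

open Cfsg Cfsg.Geo Module Cfsg.Agent.H251.GeoCard Cfsg.Agent.H951 Cfsg.Agent.H251.GeoU
open Cfsg.Agent.H436 Cfsg.Agent.H915.GN Cfsg.Agent.OrdDiv
open Cfsg.Agent.H729.CovU hiding L_apply
open Cfsg.Agent.H729.CovSU9 (Res9 dvd_or l219 j3 l3)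
open Cfsg.Agent.H424.Spr (Spr)
open scoped Matrix MatrixGroups

/-- `PSU_9(q)`, from the residual class -/
theorem spr_psu_nine_of {F : Type} [Field F] [Fintype F] {q : ℕ} (hF : Fintype.card F = q ^ 2) (hres : Res9 F q) :
    Spr (PSU 9 F q) := by
  have hfin : Finite (PSU 9 F q) := Quotient.finite _
  obtain ⟨p, f, hp, hf, hq, hpF⟩ := exists_prime_power hF
  obtain ⟨s9, hs9, hi9, hb9, ho9⟩ := exists_big (m := 9) hp hf (by norm_num) (by decide) (by omega)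
  obtain ⟨s7, hs7, hi7, hb7, ho7⟩ := exists_big (m := 7) hp hf (by norm_num) (by decide) (by omega)
  rw [← hq] at ho9 ho7
  have hl7 : 14 * f < s7 := by
    have := Nat.le_of_dvd (by have := hs7.two_le; omega) hb7
    have := hs7.two_le
    omega
  have hd7 : 14 ∣ s7 - 1 := Dvd.dvd.trans ⟨f, by ring⟩ hb7
  refine spr_of_over (k := 7) hF (by norm_num) (by decide) hs7 hs9 ho7 ho9 fun M hM h7 => ?_
  rcases geo_over_pre hF hp hq hf hs7 hi7 ho7 (by decide) (by norm_num) (by norm_num) (by omega) hM.1 h7 with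
    ⟨W, hW0, -, hW, hle⟩ | ⟨W, hW0, hWn, -, hW, hle⟩ | ⟨r, K, hr, hro, hr9, hr7, hK, hle⟩ | hMr
  · exact ⟨W, hW0, by omega, hle⟩
  · exact ⟨W, hW0, by omega, hle⟩
  · exfalso
    have h1 : r ∣ 9 - 7 := Nat.dvd_sub hr9 hr7
    have h2 := (Nat.prime_dvd_prime_iff_eq hr Nat.prime_two).1 h1
    subst h2
    exact absurd hro (by decide)
  · exfalso
    obtain ⟨P, hP, hcases⟩ := hres (pre M) (isMaximalIn_pre hM) hMr
    obtain ⟨S, hSn, hSs, hna, hC, ⟨e⟩⟩ := H264.FKS.exists_res_psu hF (by norm_num) hP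
    rcases hcases with ⟨⟨e2⟩, -⟩ | ⟨hJ, -⟩ | hL
    · rcases l219 hna (e.trans e2) hs7 (by omega) (dvd_or S hna hC hs7 h7) with h1 | h1 <;> omega
    · have hJ' : Spor.IsoJ3 S := by
        obtain ⟨K, i1, i2, ω, hK, hω, ⟨e3⟩⟩ := hJ
        exact ⟨K, i1, i2, ω, hK, hω, ⟨e.trans e3⟩⟩
      rcases j3 hJ' hs7 (by omega) (dvd_or S hna hC hs7 h7) with h1 | h1 | h1 <;> omega
    · obtain ⟨e2⟩ := hL
      exact l3 hF hp hq hf hna (e.trans e2) hs7 ho7 (by decide) (by norm_num) hb7 (dvd_or S hna hC hs7 h7)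

end Cfsg.Agent.H196.Spr
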