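import Cfsg.Agent.H196.Spr.SUNine
import Cfsg.Agent.S5833

/-!
# S3938: `Spr (PSU 9 F q)` (helper196)
-/

set_option autoImplicit false

namespace Cfsg.Agent.H196.Spr

open Cfsg
open Cfsg.Agent.H424.Spr (Spr)

theorem spr_psu_nine {F : Type} [Field F] [Fintype F] {q : ℕ} (hF : Fintype.card F = q ^ 2) : Spr (PSU 9 F q) :=
  spr_psu_nine_of hF fun H hH hS => Cfsg.Agent.S5833.result q hF H hH hS

end Cfsg.Agent.H196.Spr
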