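import Cfsg.Agent.H729.CovU
import Cfsg.Agent.H424.Spr.Two
import Cfsg.Agent.CpAut.Fix
import Cfsg.Agent.S0277
import Cfsg.Agent.S0283

/-!
# S3938: `PSU_{k+2}(q)`, `k` odd: the element `[k] + J_2` (helper196)

`spr_of_over` : `Spr (PSU (k + 2) F q)` if every maximal subgroup of order divisible by `s` (`-q` has order `k` modulo the
prime `s`) stabilises a subspace of dimension one or two.
-/

set_option autoImplicit false
set_option linter.unusedSectionVars false

namespace Cfsg.Agent.H196.Spr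

open Cfsg Cfsg.Geo Module Cfsg.Agent.H251.GeoCard Cfsg.Agent.H951 Cfsg.Agent.H251.GeoU
open Cfsg.Agent.H729.CovU hiding L_apply
open Cfsg.Agent.H494.PSURow (blk blk_injective eq_one_left eq_one_right entries_of_center)
open Cfsg.Agent.H424.Spr (Spr spr_of_two_up)
open scoped Matrix MatrixGroups

variable {F : Type*} [Field F] [Fintype F] {n k q : ℕ}

theorem card_SU2 (hF : Fintype.card F = q ^ 2) : Nat.card (SU 2 F q) = q * (q ^ 2 - 1) := by
  have h1 := Cfsg.Agent.LieClassical.GUOrder.card_GU_eq hF (n := 2) (by norm_num)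
  rw [Cfsg.Agent.S0277.result hF 2] at h1
  rw [Finset.prod_range_succ, Finset.prod_range_one, if_pos (by decide), if_neg (by decide)] at h1
  have h2 : (q + 1) * (q * (q ^ 2 - 1)) = (q + 1) * Nat.card (SU 2 F q) := by
    rw [← h1]; ring_nf
  exact (Nat.eq_of_mul_eq_mul_left (Nat.succ_pos q) h2).symm

/-- stabilisers of subspaces in `SU_n(q)` -/
def stb (q : ℕ) (W : Submodule F (Fin n → F)) : Subgroup (SU n F q) :=
  (subspaceStabilizer W).comap (H918.suHom n F q)

theorem inj_L (A : SU n F q) : Function.Injective (L n F q A) := by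
  intro a b hab
  have h2 : L n F q A⁻¹ (L n F q A a) = L n F q A⁻¹ (L n F q A b) := by rw [hab]
  rw [← Module.End.mul_apply, ← Module.End.mul_apply, ← map_mul, inv_mul_cancel, map_one] at h2
  exact h2

theorem finrank_map_L (A : SU n F q) (W : Submodule F (Fin n → F)) :
    finrank F ↥(W.map (L n F q A)) = finrank F W :=
  (Submodule.equivMapOfInjective (L n F q A) (inj_L A) W).finrank_eq.symm

theorem mem_stb {W : Submodule F (Fin n → F)} {A : SU n F q} : A ∈ stb q W ↔ Inv (L n F q A) W := by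
  constructor
  · intro h
    exact inv_of_mem (Subgroup.mem_comap.1 h)
  · intro h
    rw [stb, Subgroup.mem_comap, H918.mem_subspaceStabilizer]
    intro w
    refine ⟨fun hw => ?_, fun hw => ?_⟩
    · have := h w hw
      rwa [H729.CovU.L_apply] at this
    · have h3 : W.map (L n F q A) = W := by
        apply Submodule.eq_of_le_of_finrank_eq
        · rintro _ ⟨a, ha, rfl⟩
          exact h a ha
        · exact finrank_map_L A W
      have h4 : L n F q A w ∈ W := by
        rw [H729.CovU.L_apply]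
        exact hw
      rw [← h3] at h4
      obtain ⟨a, ha, hab⟩ := h4
      rwa [← inj_L A hab]

/-- no proper subspace is invariant -/
theorem stb_ne_top (hF : Fintype.card F = q ^ 2) {t : ℕ} (ht : t.Prime) (hn : 2 ≤ n) (hno : Odd n)
    (hto : orderOf (-(q : ZMod t)) = n) {W : Submodule F (Fin n → F)} (h0 : W ≠ ⊥) (h1 : finrank F W < n) :
    stb q W ≠ ⊤ := by
  intro htop
  have := Fact.mk ht
  obtain ⟨z, hz⟩ := exists_orderOf (F := F) hF ht hn hto
  have hzt : z ^ t = 1 := by rw [← hz, pow_orderOf_eq_one]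
  have hz1 : z ≠ 1 := by
    rintro rfl
    rw [orderOf_one] at hz
    exact ht.one_lt.ne hz
  have h2 : z ∈ stb q W := by rw [htop]; exact Subgroup.mem_top _
  have h3 := mem_stb.1 h2
  have h4 : W ≤ fx (L n F q z) := by
    refine le_fx (natCast_ne hF ht (not_dvd_of_ord ht hto (by omega))) ?_ h3 ?_
    · rw [← map_pow, hzt, map_one]
    · rw [hF, ord_sq_odd hto hno]
      exact h1
  apply h0
  rw [eq_bot_iff]
  intro w hw
  rw [Submodule.mem_bot]
  exact eq_zero_of_fix hF ht (by omega) hto hzt hz1 (mem_fx.1 (h4 hw))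

/-- the last two coordinates -/
def E2 (k : ℕ) (F : Type*) [Field F] : Submodule F (Fin (k + 2) → F) :=
  LinearMap.ker (LinearMap.funLeft F F (fun j : Fin k => (finSumFinEquiv (.inl j) : Fin (k + 2))))

theorem mem_E2 {v : Fin (k + 2) → F} : v ∈ E2 k F ↔ (fun j : Fin k => v (finSumFinEquiv (.inl j))) = 0 := by
  rw [E2, LinearMap.mem_ker]
  rfl

theorem finrank_E2 : finrank F ↥(E2 k F) = 2 := by
  have h1 := LinearMap.finrank_range_add_finrank_ker
    (LinearMap.funLeft F F (fun j : Fin k => (finSumFinEquiv (.inl j) : Fin (k + 2))))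
  have h2 : Function.Surjective
      (LinearMap.funLeft F F (fun j : Fin k => (finSumFinEquiv (.inl j) : Fin (k + 2)))) := by
    apply LinearMap.funLeft_surjective_of_injective
    intro a b h
    exact Sum.inl_injective (finSumFinEquiv.injective h)
  rw [LinearMap.range_eq_top.2 h2, finrank_top, finrank_fintype_fun_eq_card, finrank_fintype_fun_eq_card,
    Fintype.card_fin, Fintype.card_fin] at h1
  change k + finrank F ↥(E2 k F) = k + 2 at h1
  omega

section elt

variable (hF : Fintype.card F = q ^ 2) {s p : ℕ} (hs : s.Prime) (hp : p.Prime) (hsp : s ≠ p) (hk : 3 ≤ k) (hko : Odd k)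
  (hso : orderOf (-(q : ZMod s)) = k) {x : SU k F q} {y : SU 2 F q} (hx : orderOf x = s) (hy : orderOf y = p)

include hF hs hp hsp hk hko hso hx hy

/-- small invariant subspaces -/
theorem le_E2 {W : Submodule F (Fin (k + 2) → F)} (hW : Inv (L (k + 2) F q (blk k 2 F q (x, y))) W)
    (hd : finrank F W < k) : W ≤ E2 k F := by
  have := Fact.mk hs
  have hxs : x ^ s = 1 := by rw [← hx, pow_orderOf_eq_one]
  have hyp : y ^ p = 1 := by rw [← hy, pow_orderOf_eq_one]
  have hC : (blk k 2 F q (x, y)) ^ p = blk k 2 F q (x ^ p, 1) := by rw [← map_pow, Prod.pow_mk, hyp]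
  have hCs : (blk k 2 F q (x ^ p, 1)) ^ s = 1 := by
    rw [← map_pow, Prod.pow_mk, ← pow_mul, mul_comm, pow_mul, hxs, one_pow, one_pow]
    exact map_one _
  have hinv : Inv (L (k + 2) F q (blk k 2 F q (x ^ p, 1))) W := by
    rw [← hC]
    exact mem_stb.1 (Subgroup.pow_mem _ (mem_stb.2 hW) p)
  have h1 : W ≤ fx (L (k + 2) F q (blk k 2 F q (x ^ p, 1))) := by
    refine le_fx (natCast_ne hF hs (not_dvd_of_ord hs hso (by omega))) ?_ hinv ?_
    · rw [← map_pow, hCs, map_one]
    · rw [hF, ord_sq_odd hso hko]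
      exact hd
  intro v hv
  have h2 := mem_fx.1 (h1 hv)
  rw [mem_E2]
  refine eq_zero_of_fix hF hs (by omega) hso (x := x ^ p) (by rw [← pow_mul, mul_comm, pow_mul, hxs, one_pow])
    (pow_ne_one hs hp hsp hx) ?_
  funext i
  rw [← L_blk_inl (x ^ p) 1 v i, h2]

/-- invariant lines -/
theorem line_le (hpq : p ∣ q) {W : Submodule F (Fin (k + 2) → F)} (hW : Inv (L (k + 2) F q (blk k 2 F q (x, y))) W)
    (hd : finrank F W = 1) : W ≤ fx (L (k + 2) F q (blk k 2 F q (1, y ^ s))) := by
  have hxs : x ^ s = 1 := by rw [← hx, pow_orderOf_eq_one]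
  have hyp : y ^ p = 1 := by rw [← hy, pow_orderOf_eq_one]
  have hC : (blk k 2 F q (x, y)) ^ s = blk k 2 F q (1, y ^ s) := by rw [← map_pow, Prod.pow_mk, hxs]
  have hCp : (blk k 2 F q (1, y ^ s)) ^ p = 1 := by
    rw [← map_pow, Prod.pow_mk, ← pow_mul, mul_comm, pow_mul, hyp, one_pow, one_pow]
    exact map_one _
  have hinv : Inv (L (k + 2) F q (blk k 2 F q (1, y ^ s))) W := by
    rw [← hC]
    exact mem_stb.1 (Subgroup.pow_mem _ (mem_stb.2 hW) s)
  set T := L (k + 2) F q (blk k 2 F q (1, y ^ s)) with hT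
  have hTp : T ^ p = 1 := by rw [hT, ← map_pow, hCp, map_one]
  intro w hw
  rcases eq_or_ne w 0 with rfl | hw0
  · exact Submodule.zero_mem _
  obtain ⟨l, hl⟩ : ∃ l : F, l • w = T w := by
    have h1 := (finrank_eq_one_iff_of_nonzero' (⟨w, hw⟩ : W) (fun h => hw0 (congrArg Subtype.val h))).1 hd
      ⟨T w, hinv w hw⟩
    obtain ⟨l, hl⟩ := h1
    exact ⟨l, congrArg Subtype.val hl⟩
  have h2 : ∀ m : ℕ, (T ^ m) w = l ^ m • w := by
    intro m
    induction m with
    | zero => rw [pow_zero, pow_zero, one_smul]; rfl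
    | succ m ih => rw [pow_succ', Module.End.mul_apply, ih, map_smul, ← hl, smul_smul, ← pow_succ]
  have h3 : l ^ p = 1 := by
    have h4 := h2 p
    rw [hTp, Module.End.one_apply] at h4
    have h5 : (l ^ p - 1) • w = 0 := by rw [sub_smul, one_smul, ← h4, sub_self]
    exact sub_eq_zero.1 ((smul_eq_zero.1 h5).resolve_right hw0)
  have h4 : l = 1 := by
    have : Fact p.Prime := ⟨hp⟩
    have hch : CharP F p := by
      obtain ⟨p', hp'⟩ := CharP.exists F
      obtain ⟨m, hpp, hm⟩ := FiniteField.card F p'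
      have h6 : p ∣ p' ^ (m : ℕ) := by
        rw [← hm, hF]
        exact Dvd.dvd.trans hpq (dvd_pow_self q two_ne_zero)
      have h7 : p = p' := (Nat.prime_dvd_prime_iff_eq hp hpp).1 (hp.dvd_of_dvd_pow h6)
      rwa [h7]
    have h8 : (l - 1) ^ p = 0 := by rw [sub_pow_char, one_pow, h3, sub_self]
    exact sub_eq_zero.1 (pow_eq_zero_iff (hp.ne_zero) |>.1 h8)
  rw [mem_fx, ← hl, h4, one_smul]

/-- the fixed vectors -/
theorem finrank_inf_le : finrank F ↥(E2 k F ⊓ fx (L (k + 2) F q (blk k 2 F q (1, y ^ s)))) ≤ 1 := by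
  by_contra hcon
  have h1 : E2 k F ⊓ fx (L (k + 2) F q (blk k 2 F q (1, y ^ s))) = E2 k F := by
    apply Submodule.eq_of_le_of_finrank_le inf_le_left
    rw [finrank_E2]
    omega
  have h2 : E2 k F ≤ fx (L (k + 2) F q (blk k 2 F q (1, y ^ s))) := inf_eq_left.1 h1
  apply pow_ne_one hp hs hsp.symm hy
  apply L_injective
  rw [map_one]
  apply LinearMap.ext
  intro u
  rw [Module.End.one_apply]
  set v : Fin (k + 2) → F := fun i => Sum.elim (fun _ => 0) u (finSumFinEquiv.symm i) with hv
  have h3 : v ∈ E2 k F := by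
    rw [mem_E2]
    funext j
    rw [hv]
    simp
  have h4 := mem_fx.1 (h2 h3)
  funext i
  have h5 := congrFun h4 (finSumFinEquiv (.inr i))
  rw [L_blk_inr (1 : SU k F q) (y ^ s) v i] at h5
  have h6 : (fun j => v (finSumFinEquiv (.inr j))) = u := by
    funext j
    rw [hv]
    simp
  have h7 : v (finSumFinEquiv (.inr i)) = u i := congrFun h6 i
  rw [h6, h7] at h5
  exact h5

/-- invariant lines are unique -/
theorem line_unique (hpq : p ∣ q) {W W' : Submodule F (Fin (k + 2) → F)}
    (hW : Inv (L (k + 2) F q (blk k 2 F q (x, y))) W) (hd : finrank F W = 1)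
    (hW' : Inv (L (k + 2) F q (blk k 2 F q (x, y))) W') (hd' : finrank F W' = 1) : W = W' := by
  have key : ∀ W : Submodule F (Fin (k + 2) → F), Inv (L (k + 2) F q (blk k 2 F q (x, y))) W → finrank F W = 1 →
      W = E2 k F ⊓ fx (L (k + 2) F q (blk k 2 F q (1, y ^ s))) := by
    intro W hW hd
    apply Submodule.eq_of_le_of_finrank_le
    · exact le_inf (le_E2 hF hs hp hsp hk hko hso hx hy hW (by omega)) (line_le hF hs hp hsp hk hko hso hx hy hpq hW hd)
    · rw [hd]
      exact finrank_inf_le hF hs hp hsp hk hko hso hx hy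
  rw [key W hW hd, key W' hW' hd']

/-- invariant planes are unique -/
theorem plane_unique {W : Submodule F (Fin (k + 2) → F)} (hW : Inv (L (k + 2) F q (blk k 2 F q (x, y))) W)
    (hd : finrank F W = 2) : W = E2 k F := by
  apply Submodule.eq_of_le_of_finrank_le (le_E2 hF hs hp hsp hk hko hso hx hy hW (by omega))
  rw [hd, finrank_E2]

end elt

/-- **`[k] + J_2`** -/
theorem spr_of_over (hF : Fintype.card F = q ^ 2) (hk : 3 ≤ k) (hko : Odd k) {s t : ℕ} (hs : s.Prime) (ht : t.Prime)
    (hso : orderOf (-(q : ZMod s)) = k) (hto : orderOf (-(q : ZMod t)) = k + 2)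
    (hover : ∀ M : Subgroup (PSU (k + 2) F q), IsCoatom M → s ∣ Nat.card M → ∃ W : Submodule F (Fin (k + 2) → F),
      W ≠ ⊥ ∧ finrank F W ≤ 2 ∧ pre M ≤ subspaceStabilizer W) : Spr (PSU (k + 2) F q) := by
  have hS : IsSimpleGroup (PSU (k + 2) F q) := Cfsg.Agent.S0283.result hF (k + 2) (by omega) (by omega)
  have hfin : Finite (PSU (k + 2) F q) := Quotient.finite _
  have hna : ∃ x y : PSU (k + 2) F q, x * y ≠ y * x := by
    by_contra hcon
    push Not at hcon
    exact Cfsg.Agent.CpAut.Fix.not_comm_quot (H := SU (k + 2) F q) (hs := hS) ⟨⟨hcon⟩⟩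
  -- the prime `p`
  obtain ⟨p, f, hp, hf, hq, -⟩ : ∃ p f : ℕ, p.Prime ∧ 1 ≤ f ∧ q = p ^ f ∧ True := by
    obtain ⟨p, f, h1, h2, h3, -⟩ := exists_prime_power hF
    exact ⟨p, f, h1, h2, h3, trivial⟩
  have hpq : p ∣ q := by rw [hq]; exact dvd_pow_self p (by omega)
  have hsq := not_dvd_of_ord hs hso (by omega)
  have hsp : s ≠ p := by
    rintro rfl
    exact hsq hpq
  obtain ⟨x, hx⟩ := exists_orderOf (F := F) hF hs (by omega) hso
  have hpf := Fact.mk hp
  obtain ⟨y, hy⟩ : ∃ y : SU 2 F q, orderOf y = p := by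
    apply exists_prime_orderOf_dvd_card' p
    rw [card_SU2 hF]
    exact Dvd.dvd.mul_right hpq _
  set C := blk k 2 F q (x, y) with hC
  have hxs : x ^ s = 1 := by rw [← hx, pow_orderOf_eq_one]
  have hyp : y ^ p = 1 := by rw [← hy, pow_orderOf_eq_one]
  have hE0 : E2 k F ≠ ⊥ := by
    intro h
    have h1 := finrank_E2 (F := F) (k := k)
    rw [h, finrank_bot] at h1
    omega
  have hker : ∀ W : Submodule F (Fin (k + 2) → F),
      (QuotientGroup.mk' (Subgroup.center (SU (k + 2) F q))).ker ≤ stb q W := by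
    intro W A hA
    rw [QuotientGroup.ker_mk'] at hA
    obtain ⟨c, hc⟩ := entries_of_center hF (by omega) hA
    rw [mem_stb]
    intro w hw
    have h1 : L (k + 2) F q A w = c • w := by
      rw [H729.CovU.L_apply]
      funext i
      change ∑ j, A.1.1 i j * w j = c * w i
      rw [Finset.sum_eq_single i]
      · rw [hc, if_pos rfl]
      · intro j _ hj
        rw [hc, if_neg hj.symm, zero_mul]
      · intro h
        exact absurd (Finset.mem_univ i) h
    rw [h1]
    exact Submodule.smul_mem _ _ hw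
  -- overgroups
  have hov : ∀ K : Subgroup (SU (k + 2) F q), (QuotientGroup.mk' (Subgroup.center (SU (k + 2) F q))).ker ≤ K →
      C ∈ K → K ≠ ⊤ → ∃ W : Submodule F (Fin (k + 2) → F), Inv (L (k + 2) F q C) W ∧ K ≤ stb q W ∧
        (finrank F W = 1 ∨ finrank F W = 2) := by
    intro K hK hCK hKt
    have hcomap : (K.map (QuotientGroup.mk' (Subgroup.center (SU (k + 2) F q)))).comap
        (QuotientGroup.mk' (Subgroup.center (SU (k + 2) F q))) = K := by
      rw [Subgroup.comap_map_eq, sup_eq_left.2 hK]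
    have hne : K.map (QuotientGroup.mk' (Subgroup.center (SU (k + 2) F q))) ≠ ⊤ := by
      intro h
      apply hKt
      rw [← hcomap, h, Subgroup.comap_top]
    obtain ⟨M, hM, hKM⟩ := (eq_top_or_exists_le_coatom _).resolve_left hne
    have hCM : QuotientGroup.mk' (Subgroup.center (SU (k + 2) F q)) C ∈ M := hKM ⟨C, hCK, rfl⟩
    have hsM : s ∣ Nat.card M := by
      have h1 : orderOf ((QuotientGroup.mk' (Subgroup.center (SU (k + 2) F q)) C) ^ p) = s := by
        have := Fact.mk hs
        have hCp : C ^ p = blk k 2 F q (x ^ p, 1) := by rw [hC, ← map_pow, Prod.pow_mk, hyp]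
        have hb : (blk k 2 F q (x ^ p, 1)) ^ s = 1 := by
          rw [← map_pow, Prod.pow_mk, ← pow_mul, mul_comm, pow_mul, hxs, one_pow, one_pow]
          exact map_one _
        apply orderOf_eq_prime
        · rw [← map_pow, hCp, ← map_pow, hb, map_one]
        · intro h
          rw [← map_pow, hCp] at h
          exact pow_ne_one hs hp hsp hx (eq_one_left hF (by omega) (by omega) ((QuotientGroup.eq_one_iff _).1 h))
      have h2 : (QuotientGroup.mk' (Subgroup.center (SU (k + 2) F q)) C) ^ p ∈ M := M.pow_mem hCM p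
      have h3 := orderOf_dvd_natCard (⟨_, h2⟩ : M)
      rwa [Subgroup.orderOf_mk, h1] at h3
    obtain ⟨W, hW0, hW2, hle⟩ := hover M hM hsM
    have hKW : K ≤ stb q W := by
      intro A hA
      apply hle
      exact ⟨A, hKM ⟨A, hA, rfl⟩, rfl⟩
    refine ⟨W, mem_stb.1 (hKW hCK), hKW, ?_⟩
    have h4 : finrank F W ≠ 0 := fun h => hW0 (Submodule.finrank_eq_zero.1 h)
    omega
  have hE : stb q (E2 k F) ≠ ⊤ := stb_ne_top hF ht (by omega) (by obtain ⟨j, rfl⟩ := hko; exact ⟨j + 1, by ring⟩)
    hto hE0 (by rw [finrank_E2]; omega)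
  by_cases hl : ∃ W : Submodule F (Fin (k + 2) → F), Inv (L (k + 2) F q C) W ∧ finrank F W = 1
  · obtain ⟨l, hlC, hl1⟩ := hl
    have hl0 : l ≠ ⊥ := by
      rintro rfl
      rw [finrank_bot] at hl1
      omega
    refine spr_of_two_up (f := QuotientGroup.mk' (Subgroup.center (SU (k + 2) F q))) (s := C) (M₁ := stb q l)
      (M₂ := stb q (E2 k F)) hna (QuotientGroup.mk'_surjective _) (hker _) (hker _) ?_ hE ?_ ?_
    · exact stb_ne_top hF ht (by omega) (by obtain ⟨j, rfl⟩ := hko; exact ⟨j + 1, by ring⟩) hto hl0 (by omega)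
    · intro g hg
      by_cases hCE : C ∈ stb q (E2 k F)
      · have h1 := hCE
        rw [← hg] at h1
        obtain ⟨A, hA, hAC⟩ := h1
        have hAC' : g * A * g⁻¹ = C := hAC
        have h2 : Inv (L (k + 2) F q C) (l.map (L (k + 2) F q g)) := by
          rintro _ ⟨w, hw, rfl⟩
          refine ⟨L (k + 2) F q A w, mem_stb.1 hA w hw, ?_⟩
          rw [← Module.End.mul_apply, ← Module.End.mul_apply, ← map_mul, ← map_mul, ← hAC']
          congr 2
          group
        have h3 : l.map (L (k + 2) F q g) = l :=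
          line_unique hF hs hp hsp hk hko hso hx hy hpq h2 (by rw [finrank_map_L, hl1]) hlC hl1
        have h4 : g ∈ stb q l := by
          rw [mem_stb]
          intro w hw
          have h5 : L (k + 2) F q g w ∈ l.map (L (k + 2) F q g) := ⟨w, hw, rfl⟩
          rwa [h3] at h5
        rw [← hg]
        exact (Subgroup.conj_smul_eq_self_of_mem h4).symm
      · exfalso
        apply hCE
        -- the plane is invariant
        rw [mem_stb]
        intro v hv
        rw [mem_E2] at hv ⊢
        funext i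
        rw [hC, L_blk_inl x y v i, hv, map_zero]
    · intro K hK hCK hKt
      obtain ⟨W, hW, hle, h1 | h2⟩ := hov K hK hCK hKt
      · left
        rwa [line_unique hF hs hp hsp hk hko hso hx hy hpq hW h1 hlC hl1] at hle
      · right
        rwa [plane_unique hF hs hp hsp hk hko hso hx hy hW h2] at hle
  · push Not at hl
    refine spr_of_two_up (f := QuotientGroup.mk' (Subgroup.center (SU (k + 2) F q))) (s := C) (M₁ := stb q (E2 k F))
      (M₂ := stb q (E2 k F)) hna (QuotientGroup.mk'_surjective _) (hker _) (hker _) hE hE (fun _ _ => rfl) ?_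
    intro K hK hCK hKt
    obtain ⟨W, hW, hle, h1 | h2⟩ := hov K hK hCK hKt
    · exact absurd h1 (hl W hW)
    · right
      rwa [plane_unique hF hs hp hsp hk hko hso hx hy hW h2] at hle

end Cfsg.Agent.H196.Spr
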